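import Mathlib

/-!
Sylow 2-subgroups of symmetric and alternating groups are self-normalising
(for the alternating groups: in degree at least 6).
-/

set_option autoImplicit false

namespace Cfsg.Agent.Lib.SylowTwoPerm

abbrev Pairs (m r : ℕ) : Type := (Fin m × Bool) ⊕ Fin r

variable {m r : ℕ}

/-- The fixed-point free (off the remainder) involution exchanging each pair. -/
def flip2 (m r : ℕ) : Equiv.Perm (Pairs m r) :=
  Equiv.sumCongr (Equiv.prodCongr (Equiv.refl _) (Equiv.swap false true)) (Equiv.refl _)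

@[simp] lemma flip2_inl (i : Fin m) (b : Bool) :
    flip2 m r (Sum.inl (i, b)) = Sum.inl (i, !b) := by
  cases b <;> simp [flip2]

@[simp] lemma flip2_inr (k : Fin r) : flip2 m r (Sum.inr k) = Sum.inr k := rfl

lemma flip2_flip2 (x : Pairs m r) : flip2 m r (flip2 m r x) = x := by
  rcases x with ⟨i, b⟩ | k <;> simp

abbrev pairCent (m r : ℕ) : Subgroup (Equiv.Perm (Pairs m r)) :=
  Subgroup.centralizer {flip2 m r}

lemma mem_pairCent {g : Equiv.Perm (Pairs m r)} :
    g ∈ pairCent m r ↔ ∀ x, g (flip2 m r x) = flip2 m r (g x) := by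
  rw [pairCent, Subgroup.mem_centralizer_singleton_iff]
  constructor
  · intro h x
    have := congrArg (fun f : Equiv.Perm (Pairs m r) => f x) h
    simpa [Equiv.Perm.mul_apply] using this
  · intro h
    ext x
    simp [Equiv.Perm.mul_apply, h]

lemma cent_inr {g : Equiv.Perm (Pairs m r)} (hg : g ∈ pairCent m r) (k : Fin r) :
    ∃ k', g (Sum.inr k) = Sum.inr k' := by
  have h := mem_pairCent.mp hg (Sum.inr k)
  rcases hx : g (Sum.inr k) with ⟨i, b⟩ | k'
  · rw [flip2_inr, hx, flip2_inl] at h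
    simp at h
  · exact ⟨k', rfl⟩

lemma cent_inl {g : Equiv.Perm (Pairs m r)} (hg : g ∈ pairCent m r) (i : Fin m) (b : Bool) :
    ∃ j c, g (Sum.inl (i, b)) = Sum.inl (j, c) := by
  rcases hx : g (Sum.inl (i, b)) with ⟨j, c⟩ | k'
  · exact ⟨j, c, rfl⟩
  · exfalso
    have h := mem_pairCent.mp hg (Sum.inl (i, b))
    rw [flip2_inl, hx, flip2_inr] at h
    have h2 := g.injective (h.trans hx.symm)
    simp at h2

/-- The pair containing the image of the pair `i`. -/
def blockMap (g : Equiv.Perm (Pairs m r)) (i : Fin m) : Fin m :=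
  Sum.elim Prod.fst (fun _ => i) (g (Sum.inl (i, false)))

lemma blockMap_spec {g : Equiv.Perm (Pairs m r)} (hg : g ∈ pairCent m r) (i : Fin m) (b : Bool) :
    ∃ c, g (Sum.inl (i, b)) = Sum.inl (blockMap g i, c) := by
  obtain ⟨j, c, hjc⟩ := cent_inl hg i false
  have hb : blockMap g i = j := by simp [blockMap, hjc]
  rw [hb]
  cases b
  · exact ⟨c, hjc⟩
  · refine ⟨!c, ?_⟩
    have h := mem_pairCent.mp hg (Sum.inl (i, false))
    rw [hjc, flip2_inl, flip2_inl] at h
    simpa using h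

lemma blockMap_mul {g h : Equiv.Perm (Pairs m r)} (hg : g ∈ pairCent m r)
    (hh : h ∈ pairCent m r) (i : Fin m) : blockMap (g * h) i = blockMap g (blockMap h i) := by
  obtain ⟨c, hc⟩ := blockMap_spec hh i false
  obtain ⟨d, hd⟩ := blockMap_spec hg (blockMap h i) c
  conv_lhs => rw [blockMap]
  simp [Equiv.Perm.mul_apply, hc, hd]

lemma blockMap_one (i : Fin m) : blockMap (1 : Equiv.Perm (Pairs m r)) i = i := by
  simp [blockMap]

/-- The action of the centraliser of the involution on the set of pairs. -/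
def blockHom (m r : ℕ) : pairCent m r →* Equiv.Perm (Fin m) where
  toFun g :=
    { toFun := blockMap g.1
      invFun := blockMap g.1⁻¹
      left_inv := fun i => by
        rw [← blockMap_mul (inv_mem g.2) g.2, inv_mul_cancel, blockMap_one]
      right_inv := fun i => by
        rw [← blockMap_mul g.2 (inv_mem g.2), mul_inv_cancel, blockMap_one] }
  map_one' := by ext i; simp [blockMap_one]
  map_mul' g h := by
    ext i
    simp [blockMap_mul g.2 h.2, Equiv.Perm.mul_apply]

@[simp] lemma blockHom_apply (g : pairCent m r) (i : Fin m) :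
    blockHom m r g i = blockMap g.1 i := rfl

lemma blockHom_surjective (m r : ℕ) : Function.Surjective (blockHom m r) := by
  intro σ
  let g : Equiv.Perm (Pairs m r) := Equiv.sumCongr (Equiv.prodCongr σ (Equiv.refl Bool)) (Equiv.refl _)
  have hg : g ∈ pairCent m r := by
    rw [mem_pairCent]
    rintro (⟨i, b⟩ | k)
    · simp [g]
    · simp [g]
  refine ⟨⟨g, hg⟩, ?_⟩
  ext i
  simp [blockMap, g]

lemma ker_sq (hr : r ≤ 1) (g : (blockHom m r).ker) : g ^ 2 = 1 := by
  obtain ⟨⟨g, hg⟩, hk⟩ := g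
  have hb : ∀ i, blockMap g i = i := fun i => by
    have := congrArg (fun f : Equiv.Perm (Fin m) => f i) (MonoidHom.mem_ker.mp hk)
    simpa using this
  apply Subtype.ext
  apply Subtype.ext
  ext x
  change (g ^ 2) x = x
  rw [pow_two, Equiv.Perm.mul_apply]
  rcases x with ⟨i, b⟩ | k
  · obtain ⟨c, hc⟩ := blockMap_spec hg i b
    rw [hb] at hc
    by_cases hcb : c = b
    · subst hcb
      rw [hc, hc]
    · have hcb' : c = !b := by cases b <;> cases c <;> simp_all
      rw [hc, hcb']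
      have h := mem_pairCent.mp hg (Sum.inl (i, b))
      rw [flip2_inl, hc, hcb', flip2_inl, Bool.not_not] at h
      exact h
  · obtain ⟨k', hk'⟩ := cent_inr hg k
    have : k' = k := by
      apply Fin.ext
      have := k.isLt
      have := k'.isLt
      omega
    rw [hk', this, hk', this]

/-- Flip the pairs selected by `w`. -/
def flipSet (w : Fin m → Bool) : Equiv.Perm (Pairs m r) :=
  Equiv.sumCongr (Equiv.prodCongrRight fun i =>
    bif w i then Equiv.swap false true else Equiv.refl Bool) (Equiv.refl _)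

lemma flipSet_inl (w : Fin m → Bool) (i : Fin m) (b : Bool) :
    flipSet (r := r) w (Sum.inl (i, b)) = Sum.inl (i, xor (w i) b) := by
  cases hw : w i <;> cases b <;> simp [flipSet, hw]

lemma flipSet_inr (w : Fin m → Bool) (k : Fin r) :
    flipSet w (Sum.inr k : Pairs m r) = Sum.inr k := rfl

lemma flipSet_mem (w : Fin m → Bool) : flipSet (r := r) w ∈ pairCent m r := by
  rw [mem_pairCent]
  rintro (⟨i, b⟩ | k)
  · simp [flipSet_inl]
  · simp [flipSet_inr]

lemma flipSet_ker (w : Fin m → Bool) :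
    (⟨flipSet w, flipSet_mem w⟩ : pairCent m r) ∈ (blockHom m r).ker := by
  rw [MonoidHom.mem_ker]
  ext i
  simp [blockMap, flipSet_inl]

lemma two_pow_le_card_ker (m r : ℕ) : 2 ^ m ≤ Nat.card (blockHom m r).ker := by
  have hinj : Function.Injective (fun w : Fin m → Bool =>
      (⟨⟨flipSet w, flipSet_mem w⟩, flipSet_ker w⟩ : (blockHom m r).ker)) := by
    intro w v h
    ext i
    have := congrArg (fun g : (blockHom m r).ker => g.1.1 (Sum.inl (i, false))) h
    simpa [flipSet_inl] using this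
  have := Nat.card_le_card_of_injective _ hinj
  simpa using this

lemma ker_isPGroup (hr : r ≤ 1) : IsPGroup 2 (blockHom m r).ker := fun g =>
  ⟨1, by rw [pow_one]; exact ker_sq hr g⟩

lemma padic_pairs (m r : ℕ) (hr : r ≤ 1) :
    padicValNat 2 (Nat.factorial (2 * m + r)) = padicValNat 2 (Nat.factorial m) + m := by
  have : Fact (Nat.Prime 2) := ⟨Nat.prime_two⟩
  rw [padicValNat_factorial_mul_add m (by omega), padicValNat_factorial_mul]

/-- A Sylow 2-subgroup of the centraliser is one of the whole symmetric group. -/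
lemma card_sylow_cent (hr : r ≤ 1) (S₀ : Sylow 2 (pairCent m r)) :
    Nat.card S₀ = 2 ^ (Nat.card (Equiv.Perm (Pairs m r))).factorization 2 := by
  have : Fact (Nat.Prime 2) := ⟨Nat.prime_two⟩
  rw [Sylow.card_eq_multiplicity]
  congr 1
  obtain ⟨a, ha⟩ := IsPGroup.iff_card.mp (ker_isPGroup (m := m) hr)
  have ham : m ≤ a := by
    have := two_pow_le_card_ker m r
    rw [ha] at this
    exact (Nat.pow_le_pow_iff_right (by norm_num)).mp this
  have hC : Nat.card (pairCent m r) = Nat.factorial m * 2 ^ a := by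
    rw [Subgroup.card_eq_card_quotient_mul_card_subgroup (blockHom m r).ker, ha,
      Nat.card_congr (QuotientGroup.quotientKerEquivOfSurjective (blockHom m r)
        (blockHom_surjective m r)).toEquiv, Nat.card_perm, Nat.card_fin]
  have hX : Nat.card (Equiv.Perm (Pairs m r)) = Nat.factorial (2 * m + r) := by
    rw [Nat.card_perm, Nat.card_sum, Nat.card_prod, Nat.card_fin, Nat.card_fin]
    simp [mul_comm]
  have hle : (Nat.card (pairCent m r)).factorization 2 ≤
      (Nat.card (Equiv.Perm (Pairs m r))).factorization 2 :=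
    (Nat.factorization_le_iff_dvd Nat.card_pos.ne' Nat.card_pos.ne').mpr
      (Subgroup.card_subgroup_dvd_card _) 2
  refine le_antisymm hle ?_
  rw [hX, hC, Nat.factorization_mul (Nat.factorial_ne_zero m) (by positivity)]
  simp only [Finsupp.coe_add, Pi.add_apply, Nat.factorization_def _ Nat.prime_two,
    padic_pairs m r hr, padicValNat.prime_pow]
  omega

/-- The normaliser of a subgroup of the centraliser which has enough flips
centralises the involution. -/
lemma mem_pairCent_of_normalizer (hr : r ≤ 1) (Q : Subgroup (Equiv.Perm (Pairs m r)))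
    (hQ : Q ≤ pairCent m r)
    (hW : ∀ (i : Fin m) (x : Fin m × Bool), x.1 ≠ i → ∃ q ∈ Q,
      (∀ b, q (Sum.inl (i, b)) = Sum.inl (i, b)) ∧ q (Sum.inl x) ≠ Sum.inl x)
    (hmove : ∀ x : Fin m × Bool, ∃ q ∈ Q, q (Sum.inl x) ≠ Sum.inl x)
    {g : Equiv.Perm (Pairs m r)} (hg : g ∈ Subgroup.normalizer (Q : Set _)) :
    g ∈ pairCent m r := by
  have hfix : ∀ q ∈ Q, ∀ k : Fin r, q (Sum.inr k) = Sum.inr k := by
    intro q hq k
    obtain ⟨k', hk'⟩ := cent_inr (hQ hq) k
    rw [hk']
    congr 1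
    apply Fin.ext
    have := k.isLt
    have := k'.isLt
    omega
  have hconj : ∀ q ∈ Q, g * q * g⁻¹ ∈ Q := fun q hq => (Subgroup.mem_normalizer_iff.mp hg q).mp hq
  have hconj' : ∀ q ∈ Q, g⁻¹ * q * g ∈ Q := fun q hq =>
    (Subgroup.mem_normalizer_iff''.mp hg q).mp hq
  have hinl : ∀ x : Fin m × Bool, ∃ y, g (Sum.inl x) = Sum.inl y := by
    intro x
    obtain ⟨q, hq, hne⟩ := hmove x
    rcases hx : g (Sum.inl x) with y | k
    · exact ⟨y, rfl⟩
    · exfalso
      have h1 := hfix _ (hconj q hq) k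
      rw [← hx] at h1
      simp [Equiv.Perm.mul_apply] at h1
      exact hne h1
  have hinr : ∀ k : Fin r, ∃ k', g (Sum.inr k) = Sum.inr k' := by
    intro k
    rcases hx : g (Sum.inr k) with y | k'
    · exfalso
      obtain ⟨q, hq, hne⟩ := hmove y
      have h1 := hfix _ (hconj' q hq) k
      simp only [Equiv.Perm.mul_apply, hx] at h1
      rw [Equiv.Perm.inv_eq_iff_eq, hx] at h1
      exact hne h1
    · exact ⟨k', rfl⟩
  rw [mem_pairCent]
  rintro (⟨i, b⟩ | k)
  · rw [flip2_inl]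
    obtain ⟨⟨j, c⟩, hjc⟩ := hinl (i, b)
    obtain ⟨⟨j', c'⟩, hjc'⟩ := hinl (i, !b)
    rw [hjc, hjc', flip2_inl]
    by_cases hj : j' = j
    · subst hj
      congr 2
      by_contra hcc
      have : c' = c := by cases c <;> cases c' <;> simp_all
      subst this
      have := g.injective (hjc.trans hjc'.symm)
      simp at this
    · exfalso
      obtain ⟨q, hq, hfixq, hne⟩ := hW j (j', c') hj
      have hp := hconj' q hq
      have h1 : (g⁻¹ * q * g) (Sum.inl (i, b)) = Sum.inl (i, b) := by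
        simp only [Equiv.Perm.mul_apply, hjc, hfixq c]
        rw [Equiv.Perm.inv_eq_iff_eq, hjc]
      have h2 : (g⁻¹ * q * g) (Sum.inl (i, !b)) = Sum.inl (i, !b) := by
        have := mem_pairCent.mp (hQ hp) (Sum.inl (i, b))
        rwa [flip2_inl, h1, flip2_inl] at this
      simp only [Equiv.Perm.mul_apply, hjc'] at h2
      rw [Equiv.Perm.inv_eq_iff_eq, hjc'] at h2
      exact hne h2
  · obtain ⟨k', hk'⟩ := hinr k
    rw [flip2_inr, hk', flip2_inr]

lemma eq_one_of_sq_odd {G : Type*} [Group G] {g : G} (h2 : g ^ 2 = 1)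
    (hodd : Odd (orderOf g)) : g = 1 := by
  rw [← orderOf_eq_one_iff]
  have h := orderOf_dvd_of_pow_eq_one h2
  have hle := Nat.le_of_dvd (by norm_num) h
  rcases hodd with ⟨k, hk⟩
  omega

/-- Main step: a subgroup between the flips and a Sylow 2-subgroup of the centraliser. -/
lemma odd_normalizer_trivial (hr : r ≤ 1)
    (ih : ∀ T : Sylow 2 (Equiv.Perm (Fin m)), ∀ g ∈ Subgroup.normalizer (T : Set (Equiv.Perm (Fin m))),
      Odd (orderOf g) → g = 1)
    (S₀ : Sylow 2 (pairCent m r)) (Q : Subgroup (Equiv.Perm (Pairs m r)))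
    (hQ : Q ≤ (S₀ : Subgroup (pairCent m r)).map (pairCent m r).subtype)
    (hW : ∀ (i : Fin m) (x : Fin m × Bool), x.1 ≠ i → ∃ q ∈ Q,
      (∀ b, q (Sum.inl (i, b)) = Sum.inl (i, b)) ∧ q (Sum.inl x) ≠ Sum.inl x)
    (hmove : ∀ x : Fin m × Bool, ∃ q ∈ Q, q (Sum.inl x) ≠ Sum.inl x)
    (hπ : ∀ s ∈ S₀, ∃ q : pairCent m r, q.1 ∈ Q ∧ blockHom m r q = blockHom m r s)
    {g : Equiv.Perm (Pairs m r)} (hg : g ∈ Subgroup.normalizer (Q : Set _))
    (hodd : Odd (orderOf g)) : g = 1 := by
  have : Fact (Nat.Prime 2) := ⟨Nat.prime_two⟩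
  have hQC : Q ≤ pairCent m r := hQ.trans (Subgroup.map_subtype_le _)
  have hgC := mem_pairCent_of_normalizer hr Q hQC hW hmove hg
  let gC : pairCent m r := ⟨g, hgC⟩
  let T := S₀.mapSurjective (blockHom_surjective m r)
  have hQS : ∀ q : pairCent m r, q.1 ∈ Q → q ∈ S₀ := by
    intro q hq
    obtain ⟨s, hs, hsq⟩ := Subgroup.mem_map.mp (hQ hq)
    have : s = q := Subtype.ext hsq
    exact this ▸ hs
  have hfwd : ∀ y : Equiv.Perm (Fin m), y ∈ (T : Subgroup (Equiv.Perm (Fin m))) →
      blockHom m r gC * y * (blockHom m r gC)⁻¹ ∈ (T : Subgroup (Equiv.Perm (Fin m))) := by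
    intro y hy
    rw [Sylow.coe_mapSurjective] at hy ⊢
    obtain ⟨s, hs, rfl⟩ := Subgroup.mem_map.mp hy
    obtain ⟨q, hq, hqs⟩ := hπ s hs
    refine Subgroup.mem_map.mpr ⟨gC * q * gC⁻¹, ?_, by simp [hqs]⟩
    refine hQS _ ?_
    exact (Subgroup.mem_normalizer_iff.mp hg _).mp hq
  have hmem : blockHom m r gC ∈ Subgroup.normalizer (T : Set (Equiv.Perm (Fin m))) := by
    refine Subgroup.mem_normalizer_fintype ?_
    exact hfwd
  have ho : orderOf gC = orderOf g := (Subgroup.orderOf_coe gC).symm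
  have h1 : blockHom m r gC = 1 := by
    refine ih T _ hmem ?_
    exact Odd.of_dvd_nat (ho ▸ hodd) (orderOf_map_dvd _ _)
  have h2 := ker_sq hr ⟨gC, h1⟩
  have h3 : g ^ 2 = 1 := by
    have := congrArg (fun x : (blockHom m r).ker => x.1.1) h2
    simpa using this
  exact eq_one_of_sq_odd h3 hodd

/-- The flip of a single pair. -/
def flipOne (i : Fin m) : Equiv.Perm (Pairs m r) :=
  Equiv.swap (Sum.inl (i, false)) (Sum.inl (i, true))

lemma flipOne_fix {i : Fin m} {j : Fin m} (h : j ≠ i) (b : Bool) :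
    flipOne (r := r) i (Sum.inl (j, b)) = Sum.inl (j, b) := by
  rw [flipOne, Equiv.swap_apply_of_ne_of_ne] <;> simp [h]

lemma flipOne_move (i : Fin m) (b : Bool) :
    flipOne (r := r) i (Sum.inl (i, b)) = Sum.inl (i, !b) := by
  cases b <;> simp [flipOne]

lemma flipOne_mem (i : Fin m) : flipOne (r := r) i ∈ pairCent m r := by
  rw [mem_pairCent]
  rintro (⟨j, b⟩ | k)
  · by_cases h : j = i
    · subst h; simp [flipOne_move]
    · simp [flipOne_fix h]
  · have : flipOne (r := r) i (Sum.inr k) = Sum.inr k := by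
      rw [flipOne, Equiv.swap_apply_of_ne_of_ne] <;> simp
    rw [flip2_inr, this, flip2_inr]

lemma sign_flipOne (i : Fin m) : Equiv.Perm.sign (flipOne (r := r) i) = -1 :=
  Equiv.Perm.sign_swap (by simp)

lemma flipOne_ker (i : Fin m) :
    (⟨flipOne i, flipOne_mem i⟩ : pairCent m r) ∈ (blockHom m r).ker := by
  rw [MonoidHom.mem_ker]
  ext j
  by_cases h : j = i
  · subst h; simp [blockMap, flipOne_move]
  · simp [blockMap, flipOne_fix h]

lemma ker_le_sylow (hr : r ≤ 1) (S₀ : Sylow 2 (pairCent m r)) :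
    (blockHom m r).ker ≤ S₀ := by
  obtain ⟨Q, hQ⟩ := (ker_isPGroup (m := m) hr).exists_le_sylow
  have : Fact (Nat.Prime 2) := ⟨Nat.prime_two⟩
  obtain ⟨c, rfl⟩ := MulAction.exists_smul_eq (pairCent m r) Q S₀
  intro x hx
  show x ∈ ((c • Q : Sylow 2 (pairCent m r)) : Subgroup (pairCent m r))
  rw [Sylow.smul_def, Sylow.pointwise_smul_def, Subgroup.mem_pointwise_smul_iff_inv_smul_mem]
  refine hQ ?_
  simpa [MulAut.smul_def] using
    (MonoidHom.normal_ker (blockHom m r)).conj_mem' x hx c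

/-- The standard Sylow 2-subgroup. -/
lemma exists_sylow_pairs (hr : r ≤ 1) (hm : 1 ≤ m)
    (ih : ∀ T : Sylow 2 (Equiv.Perm (Fin m)), ∀ g ∈ Subgroup.normalizer (T : Set (Equiv.Perm (Fin m))),
      Odd (orderOf g) → g = 1) :
    ∃ S : Sylow 2 (Equiv.Perm (Pairs m r)),
      (∀ g ∈ Subgroup.normalizer (S : Set (Equiv.Perm (Pairs m r))), Odd (orderOf g) → g = 1) ∧
      (3 ≤ m → ∀ g ∈ Subgroup.normalizer
          (((S : Subgroup (Equiv.Perm (Pairs m r))) ⊓ alternatingGroup (Pairs m r) :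
            Subgroup (Equiv.Perm (Pairs m r))) : Set (Equiv.Perm (Pairs m r))),
        Odd (orderOf g) → g = 1) := by
  have : Fact (Nat.Prime 2) := ⟨Nat.prime_two⟩
  obtain ⟨S₀⟩ := (inferInstance : Nonempty (Sylow 2 (pairCent m r)))
  have hker := ker_le_sylow hr S₀
  let SS : Subgroup (Equiv.Perm (Pairs m r)) := (S₀ : Subgroup (pairCent m r)).map (pairCent m r).subtype
  have hcard : Nat.card SS = 2 ^ (Nat.card (Equiv.Perm (Pairs m r))).factorization 2 := by
    rw [Subgroup.card_map_of_injective (pairCent m r).subtype_injective]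
    exact card_sylow_cent hr S₀
  have hflip : ∀ i : Fin m, flipOne i ∈ SS := fun i =>
    Subgroup.mem_map_of_mem _ (hker (flipOne_ker i))
  refine ⟨Sylow.ofCard SS hcard, ?_, ?_⟩
  · intro g hg hodd
    refine odd_normalizer_trivial hr ih S₀ SS le_rfl ?_ ?_ ?_ hg hodd
    · rintro i ⟨j, c⟩ hji
      refine ⟨flipOne j, hflip j, fun b => flipOne_fix (Ne.symm hji) b, ?_⟩
      simp [flipOne_move]
    · rintro ⟨j, c⟩
      exact ⟨flipOne j, hflip j, by simp [flipOne_move]⟩
    · exact fun s hs => ⟨s, Subgroup.mem_map_of_mem _ hs, rfl⟩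
  · intro hm3 g hg hodd
    have hpair : ∀ a b : Fin m, flipOne a * flipOne b ∈ SS ⊓ alternatingGroup (Pairs m r) := by
      intro a b
      refine Subgroup.mem_inf.mpr ⟨mul_mem (hflip a) (hflip b), ?_⟩
      rw [Equiv.Perm.mem_alternatingGroup, map_mul, sign_flipOne, sign_flipOne]
      rfl
    have hthird : ∀ i j : Fin m, ∃ k, k ≠ i ∧ k ≠ j := by
      intro i j
      obtain ⟨k, hk⟩ := ENat.exists_ne_ne_of_three_le (α := Fin m) (by simpa using hm3) i j
      exact ⟨k, hk⟩
    refine odd_normalizer_trivial hr ih S₀ (SS ⊓ alternatingGroup (Pairs m r)) inf_le_left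
      ?_ ?_ ?_ hg hodd
    · rintro i ⟨j, c⟩ hji
      obtain ⟨k, hki, hkj⟩ := hthird i j
      refine ⟨_, hpair j k, fun b => ?_, ?_⟩
      · rw [Equiv.Perm.mul_apply, flipOne_fix (Ne.symm hki), flipOne_fix (Ne.symm hji)]
      · rw [Equiv.Perm.mul_apply, flipOne_fix (Ne.symm hkj), flipOne_move]
        simp
    · rintro ⟨j, c⟩
      obtain ⟨k, -, hkj⟩ := hthird j j
      refine ⟨_, hpair j k, ?_⟩
      rw [Equiv.Perm.mul_apply, flipOne_fix (Ne.symm hkj), flipOne_move]
      simp
    · intro s hs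
      rcases Int.units_eq_one_or (Equiv.Perm.sign s.1) with h | h
      · exact ⟨s, Subgroup.mem_inf.mpr ⟨Subgroup.mem_map_of_mem _ hs, h⟩, rfl⟩
      · let i : Fin m := ⟨0, hm⟩
        refine ⟨s * ⟨flipOne i, flipOne_mem i⟩, Subgroup.mem_inf.mpr ⟨?_, ?_⟩, ?_⟩
        · exact mul_mem (Subgroup.mem_map_of_mem _ hs) (hflip i)
        · rw [Equiv.Perm.mem_alternatingGroup, Subgroup.coe_mul, map_mul, h, sign_flipOne]
          rfl
        · rw [map_mul, MonoidHom.mem_ker.mp (flipOne_ker i), mul_one]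

/-- Transport to `Fin n`: the two conclusions for every Sylow 2-subgroup. -/
lemma transport {n : ℕ} {X : Type*} [Fintype X] [DecidableEq X] (e : Fin n ≃ X)
    (S₁ : Sylow 2 (Equiv.Perm X)) (S : Sylow 2 (Equiv.Perm (Fin n))) :
    ∃ ψ : Equiv.Perm (Fin n) ≃* Equiv.Perm X,
      (∀ x, x ∈ S ↔ ψ x ∈ S₁) ∧ ∀ x, x ∈ alternatingGroup (Fin n) ↔ ψ x ∈ alternatingGroup X := by
  have : Fact (Nat.Prime 2) := ⟨Nat.prime_two⟩
  let φ : Equiv.Perm (Fin n) ≃* Equiv.Perm X := Equiv.permCongrHom e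
  have hs : Function.Surjective φ.toMonoidHom := φ.surjective
  obtain ⟨c, hc⟩ := MulAction.exists_smul_eq (Equiv.Perm X) (S.mapSurjective hs) S₁
  refine ⟨φ.trans (MulAut.conj c), fun x => ?_, fun x => ?_⟩
  · rw [← hc]
    show x ∈ S ↔ _ ∈ ((c • S.mapSurjective hs : Sylow 2 _) :
      Subgroup (Equiv.Perm X))
    rw [Sylow.smul_def, Sylow.pointwise_smul_def, Subgroup.mem_pointwise_smul_iff_inv_smul_mem,
      Sylow.coe_mapSurjective]
    simp [MulAut.smul_def, mul_assoc]
    rfl
  · rw [Equiv.Perm.mem_alternatingGroup, Equiv.Perm.mem_alternatingGroup]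
    have : Equiv.Perm.sign (φ x) = Equiv.Perm.sign x := Equiv.Perm.sign_permCongr e x
    simp [this, mul_comm, ← mul_assoc, Int.units_mul_self]

lemma exists_equiv_pairs (n : ℕ) : Nonempty (Fin n ≃ Pairs (n / 2) (n % 2)) := by
  refine ⟨Fintype.equivOfCardEq ?_⟩
  simp only [Fintype.card_fin, Fintype.card_sum, Fintype.card_prod, Fintype.card_bool]
  omega

theorem odd_normalizer_sylow_perm (n : ℕ) : ∀ T : Sylow 2 (Equiv.Perm (Fin n)),
    ∀ g ∈ Subgroup.normalizer (T : Set (Equiv.Perm (Fin n))), Odd (orderOf g) → g = 1 := by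
  induction n using Nat.strong_induction_on with
  | _ n ih =>
    intro T g hg hodd
    rcases Nat.lt_or_ge n 2 with hn | hn
    · haveI : Subsingleton (Fin n) := Fin.subsingleton_iff_le_one.mpr (by omega)
      exact Subsingleton.elim _ _
    obtain ⟨e⟩ := exists_equiv_pairs n
    obtain ⟨S₁, h₁, -⟩ := exists_sylow_pairs (m := n / 2) (r := n % 2) (by omega) (by omega)
      (ih (n / 2) (by omega))
    obtain ⟨ψ, hψ, -⟩ := transport e S₁ T
    have hψg : ψ g ∈ Subgroup.normalizer (S₁ : Set (Equiv.Perm _)) := by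
      refine Subgroup.mem_normalizer_iff.mpr fun y => ?_
      obtain ⟨x, rfl⟩ := ψ.surjective y
      rw [← map_inv, ← map_mul, ← map_mul]
      exact ((hψ x).symm.trans (Subgroup.mem_normalizer_iff.mp hg x)).trans (hψ _)
    have := h₁ _ hψg (by rwa [ψ.orderOf_eq])
    exact ψ.injective (this.trans (map_one ψ).symm)

theorem normalizer_sylow_alternating {n : ℕ} (hn : 6 ≤ n)
    (P : Sylow 2 (alternatingGroup (Fin n))) :
    Subgroup.normalizer (P : Set (alternatingGroup (Fin n))) = P := by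
  have : Fact (Nat.Prime 2) := ⟨Nat.prime_two⟩
  refine le_antisymm ?_ Subgroup.le_normalizer
  obtain ⟨S, hS⟩ := (P.2.map (alternatingGroup (Fin n)).subtype).exists_le_sylow
  have hmax : ∀ x : alternatingGroup (Fin n), x ∈ (P : Subgroup _) ↔ x.1 ∈ S := by
    have hle : (P : Subgroup (alternatingGroup (Fin n))) ≤
        (S : Subgroup (Equiv.Perm (Fin n))).comap (alternatingGroup (Fin n)).subtype :=
      fun x hx => hS (Subgroup.mem_map_of_mem _ hx)
    have heq := P.3 (S.2.comap_of_injective _ Subtype.val_injective) hle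
    intro x
    rw [← heq]
    rfl
  obtain ⟨e⟩ := exists_equiv_pairs n
  obtain ⟨S₁, -, h₂⟩ := exists_sylow_pairs (m := n / 2) (r := n % 2) (by omega) (by omega)
    (odd_normalizer_sylow_perm (n / 2))
  obtain ⟨ψ, hψ, hψA⟩ := transport e S₁ S
  have hodd : ∀ g ∈ Subgroup.normalizer (P : Set (alternatingGroup (Fin n))),
      Odd (orderOf g) → g = 1 := by
    intro g hg ho
    have hψg : ψ g.1 ∈ Subgroup.normalizer
        (((S₁ : Subgroup (Equiv.Perm (Pairs (n / 2) (n % 2)))) ⊓
            alternatingGroup (Pairs (n / 2) (n % 2)) :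
              Subgroup (Equiv.Perm (Pairs (n / 2) (n % 2)))) :
          Set (Equiv.Perm (Pairs (n / 2) (n % 2)))) := by
      rw [Subgroup.mem_normalizer_iff]
      intro y
      obtain ⟨x, rfl⟩ := ψ.surjective y
      rw [← map_inv, ← map_mul, ← map_mul, Subgroup.mem_inf, Subgroup.mem_inf, ← hψA, ← hψA]
      constructor
      · rintro ⟨h1, h2⟩
        refine ⟨(hψ _).mp ?_, mul_mem (mul_mem g.2 h2) (inv_mem g.2)⟩
        exact (hmax (g * ⟨x, h2⟩ * g⁻¹)).mp
          ((Subgroup.mem_normalizer_iff.mp hg _).mp ((hmax ⟨x, h2⟩).mpr ((hψ x).mpr h1)))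
      · rintro ⟨h1, h2⟩
        have hx : x ∈ alternatingGroup (Fin n) := by
          have := mul_mem (mul_mem (inv_mem g.2) h2) g.2
          simpa [mul_assoc] using this
        refine ⟨(hψ _).mp ((hmax ⟨x, hx⟩).mp ((Subgroup.mem_normalizer_iff.mp hg _).mpr ?_)), hx⟩
        exact (hmax (g * ⟨x, hx⟩ * g⁻¹)).mpr ((hψ _).mpr h1)
    have := h₂ (by omega) _ hψg (by rwa [ψ.orderOf_eq, Subgroup.orderOf_coe])
    exact Subtype.ext (ψ.injective (this.trans (map_one ψ).symm))
  intro g hg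
  let N := Subgroup.normalizer (P : Set (alternatingGroup (Fin n)))
  let P' : Sylow 2 N := P.subtype Subgroup.le_normalizer
  have hP' : (P' : Subgroup N).Normal := Subgroup.normal_in_normalizer
  have hidx : Odd (P' : Subgroup N).index :=
    Nat.not_even_iff_odd.mp (fun h => P'.not_dvd_index h.two_dvd)
  let x : N := ⟨g, hg⟩
  obtain ⟨k, hk⟩ : ∃ k, (x ^ 2 ^ k) ∈ (P' : Subgroup N) ∧ Odd (orderOf (x ^ 2 ^ k)) := by
    refine ⟨(orderOf x).factorization 2, ?_⟩
    have ho : Odd (orderOf (x ^ 2 ^ (orderOf x).factorization 2)) := by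
      rw [orderOf_pow_of_dvd (by positivity) (Nat.ordProj_dvd _ _)]
      exact Nat.not_even_iff_odd.mp fun h =>
        Nat.not_dvd_ordCompl Nat.prime_two (orderOf_pos x).ne' h.two_dvd
    have h1 : ((x ^ 2 ^ (orderOf x).factorization 2 : N) : alternatingGroup (Fin n)) = 1 :=
      hodd _ (x ^ _).2 (by rwa [Subgroup.orderOf_coe])
    have h2 : (x ^ 2 ^ (orderOf x).factorization 2 : N) = 1 := Subtype.ext h1
    exact ⟨by rw [h2]; exact one_mem _, ho⟩
  have hq : ((x : N) : N ⧸ (P' : Subgroup N)) = 1 := by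
    rw [← orderOf_eq_one_iff]
    have h1 : orderOf ((x : N) : N ⧸ (P' : Subgroup N)) ∣ 2 ^ k := by
      refine orderOf_dvd_of_pow_eq_one ?_
      rw [← QuotientGroup.mk_pow, QuotientGroup.eq_one_iff]
      exact hk.1
    have h2 : orderOf ((x : N) : N ⧸ (P' : Subgroup N)) ∣ (P' : Subgroup N).index := by
      rw [Subgroup.index]
      exact orderOf_dvd_natCard _
    have hcop : Nat.Coprime (2 ^ k) (P' : Subgroup N).index :=
      Nat.Coprime.pow_left _ ((Nat.prime_two.coprime_iff_not_dvd).mpr P'.not_dvd_index)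
    exact Nat.eq_one_of_dvd_coprimes hcop h1 h2
  exact (QuotientGroup.eq_one_iff x).mp hq

end Cfsg.Agent.Lib.SylowTwoPerm
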